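import Mathlib
import Cfsg.Prelude.Def_HallClasses
import Cfsg.Agent.Known.Pronormal

/-!
General facts about pronormality of subgroups of odd index.
-/

set_option autoImplicit false
set_option linter.style.haveILetI false

namespace Cfsg.Agent.PronormalPSL

open Subgroup

variable {G : Type*} [Group G]

/-- If the normalizer of a Sylow subgroup of `H` and of `G` normalises `H`, then `H` is pronormal. -/
theorem isPronormal_of_normalizer_le_normalizer [Finite G] {p : ℕ} [Fact p.Prime] (P : Sylow p G)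
    (H : Subgroup G) (hPH : (P : Subgroup G) ≤ H)
    (hN : normalizer ((P : Subgroup G) : Set G) ≤ normalizer (H : Set G)) :
    Cfsg.IsPronormal H := by
  intro g
  set K := H ⊔ H.map (MulAut.conj g).toMonoidHom
  have hgPK : ((g • P : Sylow p G) : Subgroup G) ≤ K :=
    (by rw [Sylow.coe_subgroup_smul]; exact le_trans (Subgroup.map_mono hPH) le_sup_right)
  obtain ⟨k, hkK, hk⟩ := Known.exists_mem_smul_sylow_eq P g K (hPH.trans le_sup_left) hgPK
  refine ⟨k, hkK, ?_⟩
  have hn : k⁻¹ * g ∈ normalizer (H : Set G) := by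
    refine hN (Sylow.smul_eq_iff_mem_normalizer.mp ?_)
    rw [mul_smul, ← hk, inv_smul_smul]
  calc H.map (MulAut.conj g).toMonoidHom
      = (H.map (MulAut.conj (k⁻¹ * g)).toMonoidHom).map (MulAut.conj k).toMonoidHom := by
        rw [Known.map_conj_mul]; simp
    _ = _ := congrArg (fun L : Subgroup G => L.map (MulAut.conj k).toMonoidHom)
        (mem_normalizer_iff_map_conj_eq.mp hn)

/-- Pronormality can be checked in a preimage. -/
theorem isPronormal_of_comap {M : Type*} [Group M] (f : M →* G) (hf : Function.Surjective f)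
    {H : Subgroup G} (h : Cfsg.IsPronormal (H.comap f)) : Cfsg.IsPronormal H := by
  intro g
  obtain ⟨g, rfl⟩ := hf g
  obtain ⟨x, hx, hxe⟩ := h g
  have key : ∀ y : M, ((H.comap f).map (MulAut.conj y).toMonoidHom).map f =
      H.map (MulAut.conj (f y)).toMonoidHom := by
    intro y
    rw [map_map, show f.comp (MulAut.conj y).toMonoidHom = (MulAut.conj (f y)).toMonoidHom.comp f from
      MonoidHom.ext fun z => by simp, ← map_map, map_comap_eq_self_of_surjective hf]
  refine ⟨f x, ?_, by rw [← key, ← key, hxe]⟩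
  have := mem_map_of_mem f hx
  rwa [Subgroup.map_sup, key, map_comap_eq_self_of_surjective hf] at this

/-- Conjugates of pronormal subgroups are pronormal. -/
theorem isPronormal_of_map_conj (H : Subgroup G) (a : G)
    (h : Cfsg.IsPronormal (H.map (MulAut.conj a).toMonoidHom)) : Cfsg.IsPronormal H := by
  refine isPronormal_of_comap (MulAut.conj a⁻¹).toMonoidHom (MulAut.conj a⁻¹).surjective ?_
  rwa [show H.comap (MulAut.conj a⁻¹).toMonoidHom = H.map (MulAut.conj a).toMonoidHom by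
    ext x
    simp only [mem_comap, mem_map, MulEquiv.coe_toMonoidHom, MulAut.conj_apply, inv_inv]
    exact ⟨fun hx => ⟨a⁻¹ * x * a, hx, by group⟩, fun ⟨y, hy, e⟩ => by rw [← e]; simpa [mul_assoc] using hy⟩]

/-- A subgroup of odd index contains a Sylow 2-subgroup of the whole group. -/
theorem exists_sylow_le [Finite G] {H : Subgroup G} (hH : Odd H.index) :
    ∃ P : Sylow 2 G, (P : Subgroup G) ≤ H := by
  haveI : Fact (Nat.Prime 2) := ⟨Nat.prime_two⟩
  obtain ⟨S₀⟩ : Nonempty (Sylow 2 H) := inferInstance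
  have hcard : ¬ 2 ∣ ((S₀ : Subgroup H).map H.subtype).index := by
    rw [Subgroup.index_map_subtype]
    exact fun hd => (Nat.prime_two.dvd_mul.mp hd).elim S₀.not_dvd_index
      (Nat.not_even_iff_odd.mpr hH ∘ even_iff_two_dvd.mpr)
  exact ⟨(S₀.2.map _).toSylow hcard, map_subtype_le _⟩

/-- Self-normalising Sylow 2-subgroups make all subgroups of odd index pronormal. -/
theorem isPronormal_of_selfNormalizing [Finite G] (P₀ : Sylow 2 G)
    (h : normalizer ((P₀ : Subgroup G) : Set G) ≤ (P₀ : Subgroup G)) {H : Subgroup G}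
    (hH : Odd H.index) : Cfsg.IsPronormal H := by
  haveI : Fact (Nat.Prime 2) := ⟨Nat.prime_two⟩
  obtain ⟨P, hP⟩ := exists_sylow_le hH
  obtain ⟨a, ha⟩ := MulAction.exists_smul_eq G P P₀
  refine isPronormal_of_map_conj H a (Known.isPronormal_of_sylow_normalizer_le P₀ _ ?_ ?_)
  · rw [← ha, Sylow.coe_subgroup_smul]
    exact map_mono hP
  · refine h.trans ?_
    rw [← ha, Sylow.coe_subgroup_smul]
    exact map_mono hP

/-- A surjection with a 2-group kernel preserves self-normalising Sylow 2-subgroups. -/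
theorem exists_selfNormalizing_map [Finite G] {M : Type*} [Group M] [Finite M] (f : M →* G)
    (hf : Function.Surjective f) (hker : IsPGroup 2 f.ker) (P₀ : Sylow 2 M)
    (h : normalizer ((P₀ : Subgroup M) : Set M) ≤ (P₀ : Subgroup M)) :
    ∃ P : Sylow 2 G, normalizer ((P : Subgroup G) : Set G) ≤ (P : Subgroup G) := by
  haveI : Fact (Nat.Prime 2) := ⟨Nat.prime_two⟩
  refine ⟨P₀.mapSurjective hf, ?_⟩
  show normalizer (((P₀ : Subgroup M).map f : Subgroup G) : Set G) ≤ (P₀ : Subgroup M).map f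
  have hle : f.ker ≤ (P₀ : Subgroup M) :=
    le_sup_left.trans (P₀.3 (IsPGroup.to_sup_of_normal_left hker P₀.2) le_sup_right).le
  intro g hg
  obtain ⟨g, rfl⟩ := hf g
  refine mem_map_of_mem f (h ?_)
  rw [mem_normalizer_iff] at hg ⊢
  have e : ∀ y : M, y ∈ (P₀ : Subgroup M) ↔ f y ∈ (P₀ : Subgroup M).map f := fun y => by
    rw [← mem_comap, comap_map_eq_self hle]
  intro y
  rw [e, e (g * y * g⁻¹), map_mul, map_mul, map_inv]
  exact hg (f y)

/-- Burnside transfer for an abelian Sylow 2-subgroup that is self-normalising in `J`. -/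
theorem exists_odd_complement [Finite G] (P : Sylow 2 G) (J : Subgroup G)
    (hPJ : (P : Subgroup G) ≤ J) (hab : ∀ a ∈ (P : Subgroup G), ∀ b ∈ (P : Subgroup G), a * b = b * a)
    (hN : ∀ n ∈ J, n ∈ normalizer ((P : Subgroup G) : Set G) → n ∈ (P : Subgroup G)) :
    ∃ O : Subgroup G, Odd (Nat.card O) ∧
      (∀ v ∈ (P : Subgroup G), ∀ o ∈ O, v * o * v⁻¹ ∈ O) ∧
      (∀ w ∈ J, Odd (orderOf w) → w ∈ O) ∧
      ∀ w ∈ J, ∃ o ∈ O, ∃ u ∈ (P : Subgroup G), w = o * u := by
  haveI : Fact (Nat.Prime 2) := ⟨Nat.prime_two⟩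
  let PJ : Sylow 2 J := P.subtype hPJ
  have hPJmem : ∀ w : J, w ∈ (PJ : Subgroup J) ↔ (w : G) ∈ (P : Subgroup G) := fun w => Iff.rfl
  have hNC : normalizer ((PJ : Subgroup J) : Set J) ≤ centralizer ((PJ : Subgroup J) : Set J) := by
    intro n hn
    have hnP : (n : G) ∈ (P : Subgroup G) := hN _ n.2 (mem_normalizer_fintype fun w hw =>
      (hPJmem _).1 ((mem_normalizer_iff.1 hn ⟨w, hPJ hw⟩).1 hw))
    exact mem_centralizer_iff.2 fun w hw => Subtype.ext (hab _ hw _ hnP)
  have key : ∃ K : Subgroup J, K.Normal ∧ ¬ 2 ∣ Nat.card K ∧ IsComplement' K (PJ : Subgroup J) :=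
    ⟨(MonoidHom.transferSylow PJ hNC).ker, MonoidHom.normal_ker _,
      MonoidHom.not_dvd_card_ker_transferSylow PJ hNC,
      MonoidHom.ker_transferSylow_isComplement' PJ hNC⟩
  obtain ⟨K, hKn, hK2, hKc⟩ := key
  refine ⟨K.map J.subtype, ?_, ?_, ?_, ?_⟩
  · rw [card_map_of_injective J.subtype_injective, ← Nat.not_even_iff_odd, even_iff_two_dvd]
    exact hK2
  · rintro v hv _ ⟨o, ho, rfl⟩
    exact mem_map.2 ⟨⟨v, hPJ hv⟩ * o * (⟨v, hPJ hv⟩ : J)⁻¹, hKn.conj_mem o ho _, rfl⟩
  · intro w hw hwo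
    refine mem_map.2 ⟨⟨w, hw⟩, ?_, rfl⟩
    obtain ⟨i, hi⟩ := PJ.2.exists_card_eq
    have h1 : (⟨w, hw⟩ : J) ^ (2 ^ i) ∈ K := by
      rw [← hi, ← hKc.symm.index_eq_card]
      exact K.pow_index_mem _
    have hc : (2 ^ i).Coprime (orderOf (⟨w, hw⟩ : J)) := by
      rw [Subgroup.orderOf_mk]
      exact Nat.Coprime.pow_left i (Nat.coprime_two_left.2 hwo)
    obtain ⟨m, hm⟩ := exists_pow_eq_self_of_coprime hc
    rw [← hm]
    exact K.pow_mem h1 m
  · intro w hw
    obtain ⟨⟨⟨o, ho⟩, ⟨u, hu⟩⟩, e⟩ := hKc.2 ⟨w, hw⟩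
    exact ⟨_, mem_map_of_mem J.subtype ho, u, (hPJmem u).1 hu, (congrArg Subtype.val e).symm⟩

end Cfsg.Agent.PronormalPSL
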