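import Cfsg.Agent.PronormalPSL.Basic
import Cfsg.Agent.PSLTwo25.Klein
import Cfsg.Agent.Spec.TorusTwo
import Cfsg.Agent.Signalizer.PAction
import Cfsg.Agent.OddLocal.MinSimple
import Cfsg.Agent.S2431
import Cfsg.Agent.S3820

/-!
Subgroups of odd index of `PSL_2(q)`, `q` odd, are pronormal.
-/

set_option autoImplicit false
set_option linter.style.haveILetI false
set_option linter.unusedSectionVars false

namespace Cfsg.Agent.PronormalPSL

open Matrix
open scoped MatrixGroups
open Cfsg.Agent.PSLTwo25 (negS mk_eq_iff mk_eq_one mul_negS negS_sq)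

variable {F : Type*} [Field F] [Fintype F]

local notation "G₂" => Matrix.ProjectiveSpecialLinearGroup (Fin 2) F

theorem ns_of_ne_one {x : SL(2, F)} (hx : (QuotientGroup.mk x : G₂) ≠ 1) :
    Spec.Two.NS (x : Matrix (Fin 2) (Fin 2) F) := by
  intro z hz
  have h1 := x.2
  rw [hz, Matrix.det_smul, Fintype.card_fin, Matrix.det_one, mul_one, sq, mul_self_eq_one_iff] at h1
  refine hx (mk_eq_one.2 ?_)
  rcases h1 with rfl | rfl
  · exact .inl (Subtype.ext (by rw [hz, one_smul]; rfl))
  · exact .inr (Subtype.ext (by rw [hz, neg_one_smul]; rfl))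

/-- An element of odd order commuting with an involution lifts to commuting elements. -/
theorem lift_commute (h2 : (2 : F) ≠ 0) {x a : SL(2, F)}
    (hx : Odd (orderOf (QuotientGroup.mk x : G₂)))
    (hc : (QuotientGroup.mk x : G₂) * QuotientGroup.mk a = QuotientGroup.mk a * QuotientGroup.mk x) :
    x * a = a * x := by
  rw [← QuotientGroup.mk_mul, ← QuotientGroup.mk_mul, mk_eq_iff] at hc
  rcases hc with h | h
  · exact h.symm
  exfalso
  set m := orderOf (QuotientGroup.mk x : G₂) with hm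
  have hpow : ∀ k : ℕ, a * x ^ k = negS ^ k * (x ^ k * a) := by
    intro k
    induction k with
    | zero => simp
    | succ k ih =>
      calc a * x ^ (k + 1) = a * x ^ k * x := by rw [pow_succ, mul_assoc]
        _ = negS ^ k * (x ^ k * (a * x)) := by rw [ih]; simp only [mul_assoc]
        _ = negS ^ k * (x ^ k * (negS * (x * a))) := by rw [h]
        _ = negS ^ (k + 1) * (x ^ (k + 1) * a) := by
          simp only [pow_succ, ← mul_assoc]; simp only [mul_assoc _ (x ^ k) negS, mul_negS, ← mul_assoc]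
  have hneg : (negS : SL(2, F)) ^ m = negS := by
    obtain ⟨j, hj⟩ := hx
    rw [hj, pow_succ, pow_mul, pow_two, negS_sq, one_pow, one_mul]
  have hxm : x ^ m = 1 ∨ x ^ m = negS := by
    rw [← mk_eq_one, QuotientGroup.mk_pow, hm, pow_orderOf_eq_one]
  have h1 := hpow m
  rw [hneg] at h1
  have hcom : a * x ^ m = x ^ m * a := by
    rcases hxm with e | e <;> rw [e]
    · rw [one_mul, mul_one]
    · rw [mul_negS]
  rw [hcom] at h1
  exact PSLTwo25.negS_mul_ne h2 _ h1.symm

/-- An element of odd order commutes with at most one involution. -/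
theorem involution_unique (h2 : (2 : F) ≠ 0) {x u v : G₂} (hx : Odd (orderOf x)) (hx1 : x ≠ 1)
    (hu : u * u = 1) (hu1 : u ≠ 1) (hv : v * v = 1) (hv1 : v ≠ 1)
    (hxu : x * u = u * x) (hxv : x * v = v * x) : u = v := by
  obtain ⟨x, rfl⟩ := QuotientGroup.mk_surjective x
  obtain ⟨a, rfl⟩ := QuotientGroup.mk_surjective u
  obtain ⟨b, rfl⟩ := QuotientGroup.mk_surjective v
  have ha := PSLTwo25.lift_involution h2 hu hu1
  have hb := PSLTwo25.lift_involution h2 hv hv1
  have e1 := lift_commute h2 hx hxu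
  have e2 := lift_commute h2 hx hxv
  have hC := Spec.Two.centralizer_eq_of_commute x a (ns_of_ne_one hx1) (ns_of_ne_one hu1) e1.symm
  have hab : b * a = a * b := by
    have : b ∈ Subgroup.centralizer ({a} : Set SL(2, F)) := by
      rw [hC, Subgroup.mem_centralizer_singleton_iff]
      exact e2.symm
    exact Subgroup.mem_centralizer_singleton_iff.1 this
  have hsq : (b * a) * (b * a) = 1 := by
    calc (b * a) * (b * a) = b * (a * b) * a := by group
      _ = (b * b) * (a * a) := by rw [← hab]; group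
      _ = 1 := by rw [ha, hb, negS_sq]
  refine (mk_eq_iff.2 ?_).symm
  have hainv : a⁻¹ = negS * a := inv_eq_of_mul_eq_one_right (by rw [← mul_assoc, mul_negS, mul_assoc, ha, negS_sq])
  rcases PSLTwo25.eq_one_or_negS h2 hsq with e | e
  · right
    rw [eq_inv_of_mul_eq_one_left e, hainv, ← mul_assoc, negS_sq, one_mul]
  · left
    rw [eq_mul_inv_of_mul_eq e, hainv, ← mul_assoc, negS_sq, one_mul]

/-- Elements of odd order commuting with one involution commute. -/
theorem commute_of_centralizing (h2 : (2 : F) ≠ 0) {x y v : G₂} (hx : Odd (orderOf x))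
    (hy : Odd (orderOf y)) (hv : v * v = 1) (hv1 : v ≠ 1) (hxv : x * v = v * x)
    (hyv : y * v = v * y) : x * y = y * x := by
  by_cases hx1 : x = 1
  · rw [hx1, one_mul, mul_one]
  obtain ⟨x, rfl⟩ := QuotientGroup.mk_surjective x
  obtain ⟨y, rfl⟩ := QuotientGroup.mk_surjective y
  obtain ⟨a, rfl⟩ := QuotientGroup.mk_surjective v
  have hC := Spec.Two.centralizer_eq_of_commute x a (ns_of_ne_one hx1) (ns_of_ne_one hv1)
    (lift_commute h2 hx hxv).symm
  have : y ∈ Subgroup.centralizer ({x} : Set SL(2, F)) := by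
    rw [← hC, Subgroup.mem_centralizer_singleton_iff]
    exact lift_commute h2 hy hyv
  rw [← QuotientGroup.mk_mul, ← QuotientGroup.mk_mul,
    Subgroup.mem_centralizer_singleton_iff.1 this]

theorem exists_fixed_of_abelian {H : Type*} [Group H] {A : Subgroup H}
    (hab : ∀ a ∈ A, ∀ b ∈ A, a * b = b * a) (hA : A ≠ ⊥) {x y : H} (hx : x * x = 1) (hy : y * y = 1)
    (hxA : ∀ a ∈ A, x * a * x ∈ A) (hyA : ∀ a ∈ A, y * a * y ∈ A) :
    ∃ z ∈ A, z ≠ 1 ∧ (x * z = z * x ∨ y * z = z * y ∨ (x * y) * z = z * (x * y)) := by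
  have fix : ∀ u : H, u * u = 1 → ∀ a ∈ A, u * a * u ∈ A →
      u * (a * (u * a * u)) = a * (u * a * u) * u := by
    intro u hu a ha hua
    calc u * (a * (u * a * u)) = (u * a * u) * a * u := by group
      _ = a * (u * a * u) * u := by rw [hab _ hua _ ha]
  obtain ⟨a, ha, ha1⟩ := A.bot_or_exists_ne_one.resolve_left hA
  by_cases h : a * (x * a * x) = 1
  swap
  · exact ⟨_, mul_mem ha (hxA a ha), h, .inl (fix x hx a ha (hxA a ha))⟩
  by_cases h' : a * (y * a * y) = 1
  swap
  · exact ⟨_, mul_mem ha (hyA a ha), h', .inr (.inl (fix y hy a ha (hyA a ha)))⟩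
  refine ⟨a, ha, ha1, .inr (.inr ?_)⟩
  have e1 : x * a * x = a⁻¹ := eq_inv_of_mul_eq_one_right h
  have e2 : y * a * y = a⁻¹ := eq_inv_of_mul_eq_one_right h'
  have hxi : x⁻¹ = x := inv_eq_of_mul_eq_one_right hx
  have e3 : x * a⁻¹ * x = a := by
    have := congrArg (·⁻¹) e1
    simpa [_root_.mul_inv_rev, hxi, mul_assoc] using this
  calc x * y * a = x * (y * a * y) * y := by
        rw [show x * (y * a * y) * y = x * y * a * (y * y) by group, hy, mul_one]
    _ = (x * a⁻¹ * x) * x * y := by rw [e2]; rw [show x * a⁻¹ * x * x * y = x * a⁻¹ * (x * x) * y by group, hx, mul_one]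
    _ = a * (x * y) := by rw [e3]; group

/-- A subgroup of odd order normalised by a four-group centralises one of its involutions. -/
theorem odd_invariant_le (hodd : Odd (Fintype.card F)) {V : Subgroup G₂} (hV : IsKleinFour V)
    {O : Subgroup G₂} (hO : Odd (Nat.card O)) (hn : ∀ v ∈ V, ∀ o ∈ O, v * o * v⁻¹ ∈ O) :
    ∃ v ∈ V, v ≠ 1 ∧ ∀ o ∈ O, o * v = v * o := by
  classical
  haveI : Fact (Nat.Prime 2) := ⟨Nat.prime_two⟩
  have h2 := Linear.two_ne_zero_of_odd_card hodd
  have hsq : ∀ v ∈ V, v * v = 1 := fun v hv => PSLTwo25.klein_sq hV hv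
  have hinv : ∀ v ∈ V, v⁻¹ = v := fun v hv => inv_eq_of_mul_eq_one_right (hsq v hv)
  have oddOrd : ∀ o ∈ O, Odd (orderOf o) := fun o ho =>
    hO.of_dvd_nat (by simpa using orderOf_dvd_natCard (⟨o, ho⟩ : O))
  obtain ⟨x, y, hx, hy, hx1, hy1, hxy⟩ := PSLTwo25.klein_exists_gens hV
  have hxy1 : x * y ≠ 1 := fun h => hxy ((mul_eq_one_iff_eq_inv.1 h).trans (hinv y hy))
  have pick : ∀ A : Subgroup G₂, A ≤ O → (∀ a ∈ A, ∀ b ∈ A, a * b = b * a) → A ≠ ⊥ →
      (∀ v ∈ V, ∀ a ∈ A, v * a * v ∈ A) →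
      ∃ v ∈ V, v ≠ 1 ∧ ∃ z ∈ A, z ≠ 1 ∧ z * v = v * z := by
    intro A hAO hab hA hVA
    obtain ⟨z, hz, hz1, h⟩ := exists_fixed_of_abelian hab hA (hsq x hx) (hsq y hy) (hVA x hx) (hVA y hy)
    rcases h with h | h | h
    · exact ⟨x, hx, hx1, z, hz, hz1, h.symm⟩
    · exact ⟨y, hy, hy1, z, hz, hz1, h.symm⟩
    · exact ⟨_, mul_mem hx hy, hxy1, z, hz, hz1, h.symm⟩
  have spread : ∀ z b v : G₂, Odd (orderOf z) → z ≠ 1 → v * v = 1 → v ≠ 1 → z * v = v * z →
      z * b = b * z → b * v = v * b := by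
    intro z b v hz hz1 hv hv1 hzv hzb
    have hbz : b⁻¹ * z = z * b⁻¹ := by rw [inv_mul_eq_iff_eq_mul, ← mul_assoc, ← hzb, mul_inv_cancel_right]
    have e : z * (b * v * b⁻¹) = (b * v * b⁻¹) * z := by
      calc z * (b * v * b⁻¹) = b * (z * v) * b⁻¹ := by rw [← mul_assoc z, ← mul_assoc z, hzb]; group
        _ = b * v * (z * b⁻¹) := by rw [hzv]; group
        _ = _ := by rw [← hbz]; group
    have := involution_unique h2 hz hz1 (u := b * v * b⁻¹) (v := v)
      (by rw [show b * v * b⁻¹ * (b * v * b⁻¹) = b * (v * v) * b⁻¹ by group, hv, mul_one, mul_inv_cancel])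
      (by simpa using hv1) hv hv1 e hzv
    exact mul_inv_eq_iff_eq_mul.1 this
  -- `O` is abelian
  have hOab : ∀ a ∈ O, ∀ b ∈ O, a * b = b * a := by
    intro a ha b hb
    set c : O := ⟨a, ha⟩ * ⟨b, hb⟩ * (⟨a, ha⟩ : O)⁻¹ * (⟨b, hb⟩ : O)⁻¹ with hc
    have hc1 : c = 1 := by
      rw [← orderOf_eq_one_iff, Nat.eq_one_iff_not_exists_prime_dvd]
      intro r hr hrd
      haveI : Fact r.Prime := ⟨hr⟩
      obtain ⟨Pm, hPm, hPV⟩ := Signalizer.exists_isSyl_invariant (q := r) (A := V) (X := O)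
        (IsPGroup.of_card (n := 2) hV.card_four) (Subgroup.le_normalizer_iff.2 hn)
        (fun hd => Nat.not_even_iff_odd.2 hO (even_iff_two_dvd.2 hd))
      obtain ⟨S, hS⟩ := hPm.exists_sylow
      have hSc : Subgroup.normalizer ((S : Subgroup O) : Set O) ≤
          Subgroup.centralizer ((S : Subgroup O) : Set O) := by
        intro n hn'
        rw [Subgroup.mem_centralizer_iff]
        intro s hs
        have hsP : (s : G₂) ∈ Pm := hS ▸ Subgroup.mem_map_of_mem _ hs
        by_cases hP0 : Pm = ⊥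
        · rw [hP0, Subgroup.mem_bot] at hsP
          have : s = 1 := Subtype.ext hsP
          rw [this, one_mul, mul_one]
        haveI : Nontrivial Pm := (Subgroup.nontrivial_iff_ne_bot _).2 hP0
        let A := Pm ⊓ Subgroup.centralizer (Pm : Set G₂)
        have hA : A ≠ ⊥ := by
          intro hbot
          obtain ⟨z, hz, hz1⟩ := SetLike.exists_of_lt hPm.isPGroup.bot_lt_center
          have : (z : G₂) ∈ A := ⟨z.2, Subgroup.mem_centralizer_iff.2 fun w hw =>
            congrArg Subtype.val (Subgroup.mem_center_iff.1 hz ⟨w, hw⟩)⟩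
          rw [hbot, Subgroup.mem_bot] at this
          exact hz1 (Subgroup.mem_bot.2 (Subtype.ext this))
        obtain ⟨v, hv, hv1, z, hz, hz1, hzv⟩ := pick A (inf_le_left.trans hPm.le)
          (fun a' ha' b' hb' => (Subgroup.mem_centralizer_iff.1 hb'.2 a' ha'.1)) hA (fun v hv a' ha' => by
            have := Subgroup.le_normalizer_iff.1 (Signalizer.le_normalizer_inf hPV
              (hPV.trans (OddLocal.normalizer_le_normalizer_centralizer _))) v hv a' ha'
            rwa [hinv v hv] at this)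
        have hall : ∀ w ∈ Pm, w * v = v * w := fun w hw =>
          spread z w v (oddOrd z (hPm.le hz.1)) hz1 (hsq v hv) hv1 hzv
            (Subgroup.mem_centralizer_iff.1 hz.2 w hw).symm
        have hnv : (n : G₂) * v = v * n := by
          have hzn : (n : G₂)⁻¹ * z * n ∈ Pm := by
            have hz' : (⟨z, hPm.le hz.1⟩ : O) ∈ (S : Subgroup O) := by
              rw [← Subgroup.mem_map_iff_mem O.subtype_injective, hS]
              exact hz.1
            have := (Subgroup.mem_normalizer_iff.1 (inv_mem hn') _).1 hz'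
            rw [inv_inv] at this
            exact hS ▸ Subgroup.mem_map_of_mem O.subtype this
          have e := hall _ hzn
          have e' : z * ((n : G₂) * v * (n : G₂)⁻¹) = ((n : G₂) * v * (n : G₂)⁻¹) * z := by
            calc z * ((n : G₂) * v * (n : G₂)⁻¹) = n * (((n : G₂)⁻¹ * z * n) * v) * (n : G₂)⁻¹ := by group
              _ = _ := by rw [e]; group
          exact mul_inv_eq_iff_eq_mul.1 (involution_unique h2 (oddOrd z (hPm.le hz.1)) hz1
            (by rw [show (n : G₂) * v * (n : G₂)⁻¹ * ((n : G₂) * v * (n : G₂)⁻¹) =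
                  n * (v * v) * (n : G₂)⁻¹ by group, hsq v hv, mul_one, mul_inv_cancel])
            (by simpa using hv1) (hsq v hv) hv1 e' hzv)
        exact Subtype.ext (commute_of_centralizing h2 (oddOrd _ s.2) (oddOrd _ n.2) (hsq v hv) hv1
          (hall _ hsP) hnv)
      haveI : IsMulCommutative (S : Subgroup O) :=
        ⟨⟨fun u w => Subtype.ext (hSc (Subgroup.le_normalizer w.2) u u.2)⟩⟩
      have hck : c ∈ (MonoidHom.transferSylow S hSc).ker := by
        have hcm : ∀ u w : (S : Subgroup O), u * w = w * u := IsMulCommutative.is_comm.comm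
        rw [MonoidHom.mem_ker, hc, map_mul, map_mul, map_mul, map_inv, map_inv,
          hcm ((MonoidHom.transferSylow S hSc) _) ((MonoidHom.transferSylow S hSc) _),
          mul_inv_cancel_right, mul_inv_cancel]
      have h3 := orderOf_dvd_natCard (⟨c, hck⟩ : (MonoidHom.transferSylow S hSc).ker)
      rw [Subgroup.orderOf_mk] at h3
      exact MonoidHom.not_dvd_card_ker_transferSylow S hSc (hrd.trans h3)
    have h4 : a * b * a⁻¹ * b⁻¹ = 1 := congrArg Subtype.val hc1
    exact commutatorElement_eq_one_iff_mul_comm.1 h4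
  by_cases hO0 : O = ⊥
  · exact ⟨x, hx, hx1, fun o ho => by rw [hO0, Subgroup.mem_bot] at ho; simp [ho]⟩
  obtain ⟨v, hv, hv1, z, hz, hz1, hzv⟩ := pick O le_rfl hOab hO0 (fun v hv o ho => by
    have := hn v hv o ho
    rwa [hinv v hv] at this)
  exact ⟨v, hv, hv1, fun o ho => spread z o v (oddOrd z hz) hz1 (hsq v hv) hv1 hzv (hOab z hz o ho)⟩

theorem sixteen_not_dvd {q : ℕ} (hq : q % 8 = 3 ∨ q % 8 = 5) : ¬ 16 ∣ q * (q - 1) * (q + 1) := by
  have hq' : q % 16 = 3 ∨ q % 16 = 5 ∨ q % 16 = 11 ∨ q % 16 = 13 := by omega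
  have h1 : ((q - 1) % 16) = (q % 16 + 15) % 16 := by omega
  rw [Nat.dvd_iff_mod_eq_zero, Nat.mul_mod, Nat.mul_mod q (q - 1), h1, Nat.add_mod q 1]
  rcases hq' with h | h | h | h <;> rw [h] <;> decide

set_option maxHeartbeats 1600000 in
/-- Subgroups of odd index in `PSL_2(q)`, `q` odd, are pronormal. -/
theorem isPronormal_rank_two (hodd : Odd (Fintype.card F)) {H : Subgroup G₂} (hH : Odd H.index) :
    Cfsg.IsPronormal H := by
  classical
  haveI : Fact (Nat.Prime 2) := ⟨Nat.prime_two⟩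
  haveI : Finite G₂ := Quotient.finite _
  have h2 := Linear.two_ne_zero_of_odd_card hodd
  have hq : Fintype.card F % 2 = 1 := Nat.odd_iff.1 hodd
  by_cases h8 : Fintype.card F % 8 = 1 ∨ Fintype.card F % 8 = 7
  · obtain ⟨P₀⟩ : Nonempty (Sylow 2 SL(2, F)) := inferInstance
    obtain ⟨P, hP⟩ := exists_selfNormalizing_map (QuotientGroup.mk' (Subgroup.center SL(2, F)))
      (QuotientGroup.mk'_surjective _) (by
        rw [QuotientGroup.ker_mk']
        rintro ⟨c, hc⟩
        refine ⟨1, Subtype.ext ?_⟩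
        rcases PSLTwo25.mem_center_S.1 hc with rfl | rfl <;> simp [pow_two, negS_sq]) P₀
      (((S2431.result hodd P₀).2.1 h8).le)
    exact isPronormal_of_selfNormalizing P hP hH
  replace h8 : Fintype.card F % 8 = 3 ∨ Fintype.card F % 8 = 5 := by omega
  obtain ⟨P, hPH⟩ := exists_sylow_le hH
  set V : Subgroup G₂ := (P : Subgroup G₂) with hVdef
  have hV : IsKleinFour V := by
    obtain ⟨⟨W, hW⟩⟩ := PSLTwo25.klein_exists hodd
    obtain ⟨Q, hQ⟩ := (IsPGroup.of_card (p := 2) (n := 2) (G := W) hW.card_four).exists_le_sylow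
    obtain ⟨a, ha⟩ := MulAction.exists_smul_eq G₂ Q P
    have hc4 : Nat.card W = 4 := hW.card_four
    have hQ4 : Nat.card (Q : Subgroup G₂) = 4 := by
      obtain ⟨i, hi⟩ := Q.2.exists_card_eq
      have hd := (Subgroup.card_dvd_of_le hQ)
      rw [hc4, hi] at hd
      have hG := Subgroup.card_subgroup_dvd_card (Q : Subgroup G₂)
      rw [hi] at hG
      have h2G := (PSLTwo25.card_G_factor hodd).1
      have hi2 : 2 ≤ i := by
        rcases Nat.lt_or_ge i 2 with h | h
        · interval_cases i <;> norm_num at hd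
        · exact h
      rcases Nat.lt_or_ge i 3 with h | h
      · rw [hi, show i = 2 by omega]; rfl
      · exfalso
        apply sixteen_not_dvd h8
        rw [← h2G]
        exact (mul_dvd_mul_left 2 ((pow_dvd_pow 2 h).trans hG) : 2 * 2 ^ 3 ∣ _)
    have hWQ : W = (Q : Subgroup G₂) := Subgroup.eq_of_le_of_card_ge hQ (by rw [hc4, hQ4])
    haveI := hW
    have e : (Q : Subgroup G₂) ≃* V := by
      rw [hVdef, ← ha, Sylow.coe_subgroup_smul]
      exact (Q : Subgroup G₂).equivMapOfInjective _ (MulAut.conj a).injective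
    subst hWQ
    exact ⟨by rw [← Nat.card_congr e.toEquiv, hc4],
      by rw [← Monoid.exponent_eq_of_mulEquiv e, hW.exponent_two]⟩
  refine ((S3820.result V H hPH (Known.isPronormal_sylow P)).2 fun g hg => ?_)
  set J := H ⊔ H.map (MulAut.conj g).toMonoidHom with hJ
  by_cases hgJ : g ∈ J
  · exact ⟨g, hgJ, rfl⟩
  have hHJ : H ≤ J := le_sup_left
  have hVJ : V ≤ J := hPH.trans hHJ
  set N := Subgroup.normalizer (V : Set G₂) with hN
  have hVN : V ≤ N := Subgroup.le_normalizer
  have hNJ : ∀ n ∈ J, n ∈ N → n ∈ V := by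
    intro n hnJ hnN
    by_contra hnV
    obtain ⟨k, hk, hkN⟩ := PSLTwo25.card_normalizer_klein h2 hV
    have hk2 : ¬ 2 ∣ k := by
      intro hd
      refine P.not_dvd_index (dvd_trans ?_ (Dvd.intro _ (Subgroup.relIndex_mul_index hVN)))
      have h := Subgroup.card_mul_index (V.subgroupOf N)
      rw [Nat.card_congr (Subgroup.subgroupOfEquivOfLe hVN).toEquiv, hV.card_four, hkN] at h
      rw [Subgroup.relIndex, Nat.eq_of_mul_eq_mul_left (by norm_num : 0 < 4) h]
      exact hd
    have hk' : k = 1 ∨ k = 3 := by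
      have := Nat.le_of_dvd (by norm_num) hk
      revert hk hk2; interval_cases k <;> decide
    have hVlt : V < V ⊔ Subgroup.zpowers n := lt_of_le_of_ne le_sup_left fun e =>
      hnV (e ▸ Subgroup.mem_sup_right (Subgroup.mem_zpowers n))
    have hle : V ⊔ Subgroup.zpowers n ≤ N := sup_le hVN (Subgroup.zpowers_le.2 hnN)
    have hd1 := Subgroup.card_dvd_of_le hle
    have hd2 := Subgroup.card_dvd_of_le hVlt.le
    rw [hkN] at hd1
    rw [hV.card_four] at hd2
    obtain ⟨j, hj⟩ := hd2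
    rw [hj] at hd1
    have hjk : j ∣ k := (Nat.mul_dvd_mul_iff_left (by norm_num)).1 hd1
    have hj1 : j ≠ 1 := fun e => hVlt.ne (Subgroup.eq_of_le_of_card_ge hVlt.le
      (by rw [hj, e, mul_one, hV.card_four]))
    have hje : j = k := by
      rcases hk' with rfl | rfl
      · exact absurd (Nat.dvd_one.1 hjk) hj1
      · exact ((Nat.dvd_prime Nat.prime_three).1 hjk).resolve_left hj1
    have heq : V ⊔ Subgroup.zpowers n = N :=
      Subgroup.eq_of_le_of_card_ge hle (by rw [hj, hje, hkN])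
    exact hgJ (sup_le hVJ (Subgroup.zpowers_le.2 hnJ) (heq ▸ hg))
  obtain ⟨O, hOodd, hVO, hoddmem, hprod⟩ := exists_odd_complement P J hVJ
    (fun a ha b hb => PSLTwo25.klein_comm hV ha hb) hNJ
  obtain ⟨v, hv, hv1, hvO⟩ := odd_invariant_le hodd hV hOodd hVO
  by_cases hHO : ∀ o ∈ H, o ∈ O → o = 1
  · -- `H = V`
    have hHV : H = V := by
      refine le_antisymm (fun h hh => ?_) hPH
      obtain ⟨o, ho, u, hu, e⟩ := hprod h (hHJ hh)
      have hoH : o ∈ H := by
        rw [eq_mul_inv_of_mul_eq e.symm]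
        exact mul_mem hh (inv_mem (hPH hu))
      rw [e, hHO o hoH ho, one_mul]
      exact hu
    exact ⟨1, one_mem _, by
      rw [Known.map_conj_eq_self_of_mem H.one_mem, hHV]
      exact (Subgroup.mem_normalizer_iff_map_conj_eq.1 hg)⟩
  push Not at hHO
  obtain ⟨o, hoH, hoO, ho1⟩ := hHO
  have hoodd : Odd (orderOf o) :=
    hOodd.of_dvd_nat (by simpa using orderOf_dvd_natCard (⟨o, hoO⟩ : O))
  have hconj : g * o * g⁻¹ ∈ O := by
    refine hoddmem _ (Subgroup.mem_sup_right ⟨o, hoH, rfl⟩) ?_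
    rw [show g * o * g⁻¹ = (MulAut.conj g) o from rfl, MulEquiv.orderOf_eq]
    exact hoodd
  have hgv : g * v * g⁻¹ = v := by
    refine involution_unique h2 (x := g * o * g⁻¹) ?_ (by simpa using ho1) ?_ (by simpa using hv1)
      (PSLTwo25.klein_sq hV hv) hv1 ?_ (hvO _ hconj)
    · rw [show g * o * g⁻¹ = (MulAut.conj g) o from rfl, MulEquiv.orderOf_eq]; exact hoodd
    · rw [show g * v * g⁻¹ * (g * v * g⁻¹) = g * (v * v) * g⁻¹ by group, PSLTwo25.klein_sq hV hv,
        mul_one, mul_inv_cancel]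
    · rw [show g * o * g⁻¹ * (g * v * g⁻¹) = g * (o * v) * g⁻¹ by group, hvO o hoO]; group
  -- `g²` centralises `V`, so `g` is a 2-element of `N(V)`
  have hgg : ∀ w ∈ V, (g * g) * w = w * (g * g) := by
    intro w hw
    by_cases hw1 : w = 1
    · rw [hw1, mul_one, one_mul]
    by_cases hwv : w = v
    · rw [hwv, mul_assoc, mul_inv_eq_iff_eq_mul.1 hgv, ← mul_assoc, mul_inv_eq_iff_eq_mul.1 hgv,
        mul_assoc]
    have heq := PSLTwo25.klein_eq_fourOf hV hv hw hv1 hw1 (Ne.symm hwv)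
    have him : ∀ u ∈ V, g * u * g⁻¹ ∈ V := fun u hu => (Subgroup.mem_normalizer_iff.1 hg u).1 hu
    have h1 := him w hw
    rw [heq, PSLTwo25.mem_fourOf] at h1
    have : g * (g * w * g⁻¹) * g⁻¹ = w := by
      rcases h1 with h | h | h | h
      · exact absurd (conj_eq_one_iff.1 h) hw1
      · exact absurd (mul_left_cancel (mul_right_cancel (h.trans hgv.symm))) hwv
      · rw [h, h]
      · rw [h, show g * (v * w) * g⁻¹ = (g * v * g⁻¹) * (g * w * g⁻¹) by group, hgv, h, ← mul_assoc,
          PSLTwo25.klein_sq hV hv, one_mul]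
    calc g * g * w = g * (g * w * g⁻¹) * g⁻¹ * (g * g) := by group
      _ = w * (g * g) := by rw [this]
  have hg4 : IsPGroup 2 (Subgroup.zpowers g) := by
    have h := PSLTwo25.klein_sq hV (PSLTwo25.mem_of_centralizes h2 hV hgg)
    rintro ⟨_, j, rfl⟩
    refine ⟨2, Subtype.ext ?_⟩
    show (g ^ j) ^ (2 ^ 2) = 1
    rw [← zpow_natCast (g ^ j), ← _root_.zpow_mul, mul_comm, _root_.zpow_mul, zpow_natCast,
      show g ^ 2 ^ 2 = g * g * (g * g) by rw [show 2 ^ 2 = 4 from rfl]; simp [pow_succ, mul_assoc], h,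
      _root_.one_zpow]
  exact absurd (hVJ ((le_sup_right.trans (P.3 (IsPGroup.to_sup_of_normal_left' P.2 hg4
    (Subgroup.zpowers_le.2 hg)) le_sup_left).le) (Subgroup.mem_zpowers g))) hgJ

end Cfsg.Agent.PronormalPSL
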